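import Groth.Agent.AgPol.K540.LawNodes
import Groth.Agent.AgPol.K533.Amp
import Groth.Agent.AgPol.K533.PolClBC
import Groth.Agent.AgPol.K513.PolUniq
import Groth.Agent.Ega43.FPOfComp

/-!
# Polarisation classes are local on the base

`polLocal : K117.Ag.Node.Dual → K540.Ag.Node.PolLocal`.

`c` is relatively ample, so there is a global dual `(At, φ)` with Poincaré class `ξ`.  Over the members of the
covering `c = (1, lam_i)^* ξ`, and `hom φ c = lam_i ^ 2` there.  Since `[2]` is an fppf covering, `hom φ c` descends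
along `[2]` to `lam : A ⟶ At`, which is `lam_i` over `U i`.
-/

set_option autoImplicit false
universe u

open CategoryTheory Limits MonoidalCategory CartesianMonoidalCategory AlgebraicGeometry
open scoped MonObj

namespace K639.PolLocal

open Groth.Agent Groth.Agent.Grpsch.PicGrp Groth.Agent.Fga.RigGrp K732.PicZero K732.Prim K732.Dual K732.BC
open K732.Cov K732.CubeSec K117.Ag K814

section cover

variable {T : Scheme.{u}} {κ : Type u} (U : κ → T.Opens) (hU : (⨆ i, U i) = ⊤)

include hU in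
theorem exists_mem (y : T) : ∃ i, y ∈ U i := by
  have hy : y ∈ ⨆ i, U i := by rw [hU]; trivial
  exact TopologicalSpace.Opens.mem_iSup.1 hy

include hU in
/-- A field valued point factors through a member of the covering. -/
theorem exists_lift {Ω : Type u} [Field Ω] (t : Spec (CommRingCat.of Ω) ⟶ T) :
    ∃ (i : κ) (t' : Spec (CommRingCat.of Ω) ⟶ U i), t' ≫ (U i).ι = t := by
  obtain ⟨i, hi⟩ := exists_mem U hU (t (IsLocalRing.closedPoint Ω))
  refine ⟨i, IsOpenImmersion.lift (U i).ι t ?_, IsOpenImmersion.lift_fac _ _ _⟩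
  rintro _ ⟨x, rfl⟩
  rw [Subsingleton.elim (α := PrimeSpectrum Ω) x (IsLocalRing.closedPoint Ω), Scheme.Opens.range_ι]
  exact hi

/-- The covering of a `T`-scheme by its restrictions to the `U i`. -/
noncomputable def cov (W : Over T) : FCov W :=
  ⟨κ, fun i => dn (U i).ι (Red.bc (U i).ι W), fun i => prj (U i).ι W,
    fun i => inferInstanceAs (Flat (pullback.fst W.hom (U i).ι)),
    fun i => inferInstanceAs (LocallyOfFinitePresentation (pullback.fst W.hom (U i).ι)), fun t => by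
      obtain ⟨i, hi⟩ := exists_mem U hU (W.hom t)
      obtain ⟨z, hz, -⟩ := Scheme.Pullback.exists_preimage_pullback (f := W.hom) (g := (U i).ι) t ⟨_, hi⟩ rfl
      exact ⟨i, z, hz⟩⟩

/-- The covering of the final `T`-scheme. -/
noncomputable def cov1 : FCov (𝟙_ (Over T)) :=
  ⟨κ, fun i => Over.mk (U i).ι, fun i => Over.homMk (U i).ι (Category.comp_id _),
    fun i => inferInstanceAs (Flat (U i).ι),
    fun i => inferInstanceAs (LocallyOfFinitePresentation (U i).ι), fun t => by
      obtain ⟨i, hi⟩ := exists_mem U hU t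
      exact ⟨i, ⟨_, hi⟩, rfl⟩⟩

end cover

/-- The class of a polarisation is ample on the geometric fibres. -/
theorem ample_geom {S : Scheme.{u}} {A : Over S} [GrpObj A] {g d : ℕ} (hA : AgPol.IsAbSch A g)
    (L : A.left.Modules) (hL : PicF.IsInvertible L) (hP : IsPolCl A d (mk L hL)) (Ω : Type u) [Field Ω]
    [IsAlgClosed Ω] (t : Spec (CommRingCat.of Ω) ⟶ S) :
    CohB1.IsAmple ((Scheme.Modules.pullback (pullback.fst A.hom t)).obj L) := by
  obtain ⟨At, _, _, φ, ξ, lam, hD, h1, h2, h3, hpol, hdeg, hc⟩ := hP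
  have := hA.smooth
  have := hA.proper
  have := hA.geomConnected
  have hint : GeometricallyIntegral A.hom := K814.AbBasic.geometricallyIntegral A
  obtain ⟨M, hM, hlam⟩ := hpol.2 Ω t
  have i1 : IsProper (Red.bc t A).hom := inferInstanceAs (IsProper (pullback.snd A.hom t))
  have i2 : GeometricallyIntegral (Red.bc t A).hom := inferInstanceAs (GeometricallyIntegral (pullback.snd A.hom t))
  refine K533.Amp.isAmple_of_cls (A := Red.bc t A) (Fdesc.LocGen.isInvertible_pullback (pullback.fst A.hom t) hL)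
    hM ?_
  rw [← K533.Amp.cls_fibre hD h1 h2 h3 t lam hM.1 hlam, ← hc, pull_mk]

section main

variable {T : Scheme.{u}} {A : Over T} [GrpObj A] {g d : ℕ} {κ : Type u} {U : κ → T.Opens}

/-- A class which is locally on the base a polarisation class is relatively ample. -/
theorem isRelAmple (hA : AgPol.IsAbSch A g) (hU : (⨆ i, U i) = ⊤) (L : A.left.Modules)
    (hL : PicF.IsInvertible L)
    (hc : ∀ i, IsPolCl (Red.bc (U i).ι A) d (pull (pullback.fst A.hom (U i).ι) (mk L hL))) :
    RelAmple.IsRelAmple A.hom L := by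
  have := hA.smooth
  have := hA.proper
  refine K533.GeomAmple.isRelAmple_of_geom A.hom L hL fun Ω _ _ t => ?_
  obtain ⟨i, t', rfl⟩ := exists_lift U hU t
  have h0 := hc i
  rw [pull_mk] at h0
  have h1 := ample_geom (K533.PolBC.isAbSch_bc (U i).ι hA) _ _ h0 Ω t'
  let e : (Red.bc t' (Red.bc (U i).ι A)).left ≅ (Red.bc (t' ≫ (U i).ι) A).left :=
    pullbackLeftPullbackSndIso A.hom (U i).ι t'
  have e1 : pullback.fst (Red.bc (U i).ι A).hom t' ≫ pullback.fst A.hom (U i).ι =
      e.hom ≫ pullback.fst A.hom (t' ≫ (U i).ι) :=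
    (pullbackLeftPullbackSndIso_hom_fst _ _ _).symm
  rw [← Models2.AmplePull.isAmple_pullback_comp, Models2.AmplePull.isAmple_pullback_congr e1,
    Models2.AmplePull.isAmple_pullback_iff_of_isIso] at h1
  exact h1

end main

section glue

variable {T : Scheme.{u}} {A At : Over T} [GrpObj A] [IsCommMonObj A] [GrpObj At] [IsProper A.hom]
  [Flat A.hom] [LocallyOfFinitePresentation A.hom] [GeometricallyIntegral A.hom]
  {φ : AgPol.DualMap A At}
  (hD : AbDual.IsDualAV Scheme.fppfPrecoverage A At φ)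
  {ξ : Pic (PicF.XT A.hom At)} (h1 : ξ ∈ pz A.hom At) (h2 : ξ ∈ rg A At) (h3 : cm φ ξ = 𝟙 At)

include hD h1 h2 h3

omit [IsCommMonObj A] in
/-- Over the members of the covering the homomorphism attached to `c` is the square of `lam`. -/
theorem map_hom {T' : Scheme.{u}} (k : T' ⟶ T) {c : Pic A.left} {l : Red.bc k A ⟶ Red.bc k At}
    (hp : AgPol.IsPolarization (Red.bc k A) (Red.bc k At) (AgPol.bcDual k A At φ) l)
    (hc : pull (pullback.fst A.hom k) c = ev (𝟙 _) l (bcXi k A At ξ)) :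
    (Over.pullback k).map (MumHom.hom φ c) = l * l := by
  have i1 : IsProper (Red.bc k A).hom := inferInstanceAs (IsProper (pullback.snd A.hom k))
  have i2 : Flat (Red.bc k A).hom := inferInstanceAs (Flat (pullback.snd A.hom k))
  have i3 : LocallyOfFinitePresentation (Red.bc k A).hom :=
    inferInstanceAs (LocallyOfFinitePresentation (pullback.snd A.hom k))
  have i4 : GeometricallyIntegral (Red.bc k A).hom := inferInstanceAs (GeometricallyIntegral (pullback.snd A.hom k))
  rw [MumHom.hom_bc hD k c, hc]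
  exact K513.PolUniq.hom_polCl (A := Red.bc k A) (isDualAV_bc hD) (bcXi_mem_pz h1) (bcXi_mem_rg h2)
    (K533.PolBC.cm_bcXi_eq k hD h1 h3) hp

omit hD h1 h2 h3 [IsProper A.hom] [Flat A.hom] [LocallyOfFinitePresentation A.hom] [GeometricallyIntegral A.hom]
  [IsCommMonObj A] in
/-- Points of `A` over `T'`. -/
theorem up_comp_sq {T' : Scheme.{u}} (k : T' ⟶ T) {μ' : A ⟶ At} {l : Red.bc k A ⟶ Red.bc k At} [IsMonHom l]
    (h : (Over.pullback k).map μ' = l * l) {W : Over T'} (a : dn k W ⟶ A) :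
    up (a ≫ μ') = up (a * a) ≫ l := by
  rw [up_comp, h, MonObj.comp_mul, up_mul, MonObj.mul_comp]

variable {κ : Type u} {U : κ → T.Opens} (hU : (⨆ i, U i) = ⊤) {c : Pic A.left}
  {l : ∀ i, Red.bc (U i).ι A ⟶ Red.bc (U i).ι At}
  (hp : ∀ i, AgPol.IsPolarization (Red.bc (U i).ι A) (Red.bc (U i).ι At) (AgPol.bcDual (U i).ι A At φ) (l i))
  (hc : ∀ i, pull (pullback.fst A.hom (U i).ι) c = ev (𝟙 _) (l i) (bcXi (U i).ι A At ξ))

include hU hp hc

omit [IsCommMonObj A] in
/-- The homomorphism attached to `c` equalises the kernel pair of the squaring. -/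
theorem compat {W : Over T} (a b : W ⟶ A) (h : a * a = b * b) :
    a ≫ MumHom.hom φ c = b ≫ MumHom.hom φ c := by
  refine (cov U hU W).hom_ext fun i => ?_
  have := (hp i).1
  have h4 := map_hom hD h1 h2 h3 (U i).ι (hp i) (hc i)
  apply up_inj
  have e1 := up_comp_sq (U i).ι h4 (W := Red.bc (U i).ι W) (prj (U i).ι W ≫ a)
  have e2 := up_comp_sq (U i).ι h4 (W := Red.bc (U i).ι W) (prj (U i).ι W ≫ b)
  rw [← MonObj.comp_mul, Category.assoc] at e1 e2
  exact e1.trans (by rw [h]; exact e2.symm)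

/-- **Gluing of polarisations.** -/
theorem exists_glue : ∃ lam : A ⟶ At, ∀ i, (Over.pullback (U i).ι).map lam = l i := by
  have f1 := MulEpi.surjective_pow A 2 (by norm_num)
  have f2 := MulEpi.flat_pow A 2 (by norm_num)
  have f3 : LocallyOfFinitePresentation (𝟙 A ^ 2 : A ⟶ A).left := by
    have : LocallyOfFinitePresentation ((𝟙 A ^ 2 : A ⟶ A).left ≫ A.hom) := by
      rw [Over.w]
      infer_instance
    exact Ega43.FPOfComp.locallyOfFinitePresentation_of_comp _ A.hom
  obtain ⟨lam, hlam⟩ := (single (𝟙 A ^ 2 : A ⟶ A)).glue_hom (Y := At) (fun _ => (MumHom.hom φ c : A ⟶ At)) (by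
    intro _ _ W (a : W ⟶ A) (b : W ⟶ A) hab
    refine compat hD h1 h2 h3 hU hp hc a b ?_
    have hab' : a ≫ (𝟙 A ^ 2 : A ⟶ A) = b ≫ (𝟙 A ^ 2 : A ⟶ A) := hab
    rwa [MonObj.comp_pow, MonObj.comp_pow, Category.comp_id, Category.comp_id, pow_two, pow_two] at hab')
  have hl : (𝟙 A ^ 2 : A ⟶ A) ≫ lam = MumHom.hom φ c := hlam ⟨⟩
  refine ⟨lam, fun i => ?_⟩
  have i1 : IsProper (Red.bc (U i).ι A).hom := inferInstanceAs (IsProper (pullback.snd A.hom (U i).ι))
  have i2 : Flat (Red.bc (U i).ι A).hom := inferInstanceAs (Flat (pullback.snd A.hom (U i).ι))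
  have i3 : LocallyOfFinitePresentation (Red.bc (U i).ι A).hom :=
    inferInstanceAs (LocallyOfFinitePresentation (pullback.snd A.hom (U i).ι))
  have i4 : GeometricallyIntegral (Red.bc (U i).ι A).hom :=
    inferInstanceAs (GeometricallyIntegral (pullback.snd A.hom (U i).ι))
  have := (hp i).1
  have := MulEpi.epi_pow (Red.bc (U i).ι A) 2 (by norm_num)
  have h4 : (Over.pullback (U i).ι).map (𝟙 A ^ 2 : A ⟶ A) = 𝟙 (Red.bc (U i).ι A) ^ 2 := by
    have := Groth.Agent.Grpsch.AbBC.map_zpow_one (U i).ι A ((2 : ℕ) : ℤ)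
    rwa [zpow_natCast, zpow_natCast] at this
  rw [← cancel_epi (𝟙 (Red.bc (U i).ι A) ^ 2 : Red.bc (U i).ι A ⟶ Red.bc (U i).ι A)]
  refine Eq.trans ?_ (MonObj.pow_comp (𝟙 (Red.bc (U i).ι A)) 2 (l i)).symm
  rw [Category.id_comp, pow_two (l i), ← map_hom hD h1 h2 h3 (U i).ι (hp i) (hc i), ← hl, Functor.map_comp, h4]

omit [IsCommMonObj A] hD h1 h2 h3 hc [IsProper A.hom]
  [Flat A.hom] [LocallyOfFinitePresentation A.hom] [GeometricallyIntegral A.hom] in
/-- The glued morphism is a homomorphism. -/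
theorem isMonHom_glue {lam : A ⟶ At} (hl : ∀ i, (Over.pullback (U i).ι).map lam = l i) : IsMonHom lam := by
  refine K732.Bidual.isMonHom_of_mul _ fun W a b => (cov U hU W).hom_ext fun i => up_inj ?_
  have := (hp i).1
  have key : ∀ x : dn (U i).ι (Red.bc (U i).ι W) ⟶ A, up (x ≫ lam) = up x ≫ l i := fun x => by
    rw [up_comp, hl i]
  change up (prj (U i).ι W ≫ (a * b) ≫ lam) = up (prj (U i).ι W ≫ ((a ≫ lam) * (b ≫ lam)))
  rw [← Category.assoc, key, MonObj.comp_mul, up_mul, MonObj.mul_comp, MonObj.comp_mul, up_mul,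
    ← Category.assoc, ← Category.assoc, key, key]

omit [IsCommMonObj A] hc in
/-- The glued morphism is a polarisation. -/
theorem isPolarization_glue {lam : A ⟶ At} (hl : ∀ i, (Over.pullback (U i).ι).map lam = l i) :
    AgPol.IsPolarization A At φ lam := by
  refine ⟨isMonHom_glue hU hp hl, fun Ω _ _ t => ?_⟩
  obtain ⟨i, t', rfl⟩ := exists_lift U hU t
  obtain ⟨L', hL', hlam'⟩ := (hp i).2 Ω t'
  let k : (U i : Scheme) ⟶ T := (U i).ι
  let e : (Red.bc t' (Red.bc k A)).left ≅ (Red.bc (t' ≫ k) A).left := pullbackLeftPullbackSndIso A.hom k t'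
  have e1 : e.hom ≫ pullback.fst A.hom (t' ≫ k) = pullback.fst (Red.bc k A).hom t' ≫ pullback.fst A.hom k :=
    pullbackLeftPullbackSndIso_hom_fst _ _ _
  have e2 : e.hom ≫ pullback.snd A.hom (t' ≫ k) = pullback.snd (Red.bc k A).hom t' :=
    pullbackLeftPullbackSndIso_hom_snd _ _ _
  have hL : CohB1.IsAmple ((Scheme.Modules.pullback e.inv).obj L') := Models2.AmplePull.isAmple_pullback _ hL'
  refine ⟨_, hL, K533.PolBC.isLambda_of_ev (t' ≫ k) hD h1 h3 lam hL.1 fun W a b => ?_⟩
  have i1 : IsProper (Red.bc k A).hom := inferInstanceAs (IsProper (pullback.snd A.hom k))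
  have i2 : Flat (Red.bc k A).hom := inferInstanceAs (Flat (pullback.snd A.hom k))
  have i3 : LocallyOfFinitePresentation (Red.bc k A).hom :=
    inferInstanceAs (LocallyOfFinitePresentation (pullback.snd A.hom k))
  have i4 : GeometricallyIntegral (Red.bc k A).hom := inferInstanceAs (GeometricallyIntegral (pullback.snd A.hom k))
  let j : dn k (dn t' W) ⟶ dn (t' ≫ k) W := Over.homMk (𝟙 _) (by
    change 𝟙 _ ≫ W.hom ≫ t' ≫ k = (W.hom ≫ t') ≫ k
    rw [Category.id_comp, Category.assoc])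
  have h5 : ∀ a : dn (t' ≫ k) W ⟶ A, (up (up (j ≫ a))).left ≫ e.hom = (up a).left := by
    intro a
    apply pullback.hom_ext
    · rw [Category.assoc, e1, ← Category.assoc, up_left_fst, up_left_fst, up_left_fst]
      exact Category.id_comp _
    · rw [Category.assoc, e2, up_left_snd]
      exact (up_left_snd a).symm
  have h6 : ∀ a : dn (t' ≫ k) W ⟶ A, pull (up a).left (mk _ hL.1) = pull (up (up (j ≫ a))).left (mk L' hL'.1) := by
    intro a
    rw [← h5, pull_comp, ← pull_mk e.inv hL'.1, ← pull_comp e.hom, Iso.hom_inv_id, pull_id]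
  have h7 := K814.Fibre.fibre (A := Red.bc k A) (isDualAV_bc hD) (bcXi_mem_pz h1) (bcXi_mem_rg h2)
    (K533.PolBC.cm_bcXi_eq k hD h1 h3) t' (l i) hL'.1 hlam' (W := W) (up (j ≫ a)) (up (j ≫ b))
  rw [K533.PolBC.up_eq_up, K533.PolBC.up_eq_up, K513.Lam.lam, ← hl i, ← up_comp, ev_bcXi, ← up_mul, ← up_mul,
    ← MonObj.comp_mul, Category.assoc, ← pull_ev] at h7
  rw [h6, h6, h6]
  exact (pull_id _).symm.trans h7

omit [GrpObj A] [GrpObj At] [IsCommMonObj A] hD h1 h2 h3 hp hc [IsProper A.hom]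
  [Flat A.hom] [LocallyOfFinitePresentation A.hom] [GeometricallyIntegral A.hom] in
/-- Properties of a morphism of `T`-schemes local on the target. -/
theorem of_cov {lam : A ⟶ At} (P : MorphismProperty Scheme.{u}) [IsZariskiLocalAtTarget P]
    (h : ∀ i, P ((Over.pullback (U i).ι).map lam).left) : P lam.left := by
  refine IsZariskiLocalAtTarget.of_openCover
    ((T.openCoverOfIsOpenCover U (TopologicalSpace.IsOpenCover.mk hU)).pullback₁ At.hom) fun i => ?_
  change P (pullback.snd lam.left (pullback.fst At.hom (U i).ι))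
  rw [← (K533.PolBC.isPullback_map (U i).ι lam).isoPullback_inv_snd]
  exact (P.cancel_left_of_respectsIso _ _).2 (h i)

omit [GrpObj A] [GrpObj At] [IsCommMonObj A] hD h1 h2 h3 hp hc [IsProper A.hom]
  [Flat A.hom] [LocallyOfFinitePresentation A.hom] [GeometricallyIntegral A.hom] in
theorem hasDegSq_glue {lam : A ⟶ At} {d : ℕ} (h : ∀ i, AgPol.HasDegSq ((Over.pullback (U i).ι).map lam) d) :
    AgPol.HasDegSq lam d := by
  have g1 : IsFinite lam.left := of_cov hU @IsFinite fun i => (h i).1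
  have g2 : Flat lam.left := of_cov hU @Flat fun i => (h i).2.1
  refine ⟨g1, g2, of_cov hU @LocallyOfFinitePresentation fun i => (h i).2.2.1, fun y => ?_⟩
  obtain ⟨i, hi⟩ := exists_mem U hU (At.hom y)
  obtain ⟨z, hz, -⟩ := Scheme.Pullback.exists_preimage_pullback (f := At.hom) (g := (U i).ι) y ⟨_, hi⟩ rfl
  have h4 := (h i).2.2.2 z
  rw [Scheme.Hom.finrank_of_isPullback _ _ _ _ (K533.PolBC.isPullback_map (U i).ι lam)] at h4
  rw [← hz]
  exact h4

omit [IsCommMonObj A] hD h1 h3 hp in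
/-- The glued class. -/
theorem cls_glue {lam : A ⟶ At} (hl : ∀ i, (Over.pullback (U i).ι).map lam = l i)
    (hc1 : pull (η[A] : 𝟙_ (Over T) ⟶ A).left c = 1) : c = ev (𝟙 A) lam ξ := by
  let q : PicF.XT A.hom (𝟙_ (Over T)) ⟶ A.left := pullback.fst A.hom (𝟙_ (Over T)).hom
  have hq : IsIso q := inferInstanceAs (IsIso (pullback.fst A.hom (𝟙 T)))
  have q1 : ∀ x : 𝟙_ (Over T) ⟶ A, (lift x (𝟙 _)).left ≫ q = x.left := fun x =>
    congrArg CommaMorphism.left (lift_fst x (𝟙 _))
  have q2 : ∀ c : Pic A.left, pull (η[A] : 𝟙_ (Over T) ⟶ A).left c = 1 → pull q c ∈ rg A (𝟙_ (Over T)) := by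
    intro c hc
    rw [mem_rg_iff, ev_def, ← pull_comp, q1, K814.MumHom.pull_one_left c hc]
  have q3 : pull (η[A] : 𝟙_ (Over T) ⟶ A).left (ev (𝟙 A) lam ξ) = 1 := by
    rw [K814.Graph.gr_point]
    have e : (η[A] : 𝟙_ (Over T) ⟶ A) = 1 := by simp [Hom.one_def]
    rw [e, ev_one_of_mem h2]
  have key : pull q c = pull q (ev (𝟙 A) lam ξ) := by
    refine K732.RigSheaf.rg_ext (Over.w η[A]) (bijective_XTproj A.hom) (cov1 U hU) (q2 _ hc1) (q2 _ q3) fun i => ?_
    have e : PicF.XTmap A.hom ((cov1 U hU).j i) ≫ q = pullback.fst A.hom (U i).ι := XTmap_fst _ _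
    rw [← pull_comp, ← pull_comp, e]
    refine (hc i).trans ?_
    rw [← hl i]
    exact (K533.PolClBC.pull_ev_bc (U i).ι lam ξ).symm
  have h8 := congrArg (pull (inv q)) key
  rwa [← pull_comp, ← pull_comp, IsIso.inv_hom_id, pull_id, pull_id] at h8

end glue

/-- **POLLOCAL**: being a rigidified polarisation class of degree `d ^ 2` is local on the base. -/
theorem polLocal (hN : K117.Ag.Node.Dual.{u}) : K540.Ag.Node.PolLocal.{u} := by
  intro T _ A _ _ g d hA κ U hU c hc1 hc
  have := hA.smooth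
  have := hA.proper
  have := hA.geomConnected
  have hint : GeometricallyIntegral A.hom := K814.AbBasic.geometricallyIntegral A
  obtain ⟨L, hL, hLc⟩ := exists_mk c
  obtain ⟨At, gAt, cAt, φ, hD, -⟩ := hN T A g hA L (isRelAmple hA hU L hL fun i => by
    rw [← hLc]
    exact hc i)
  obtain ⟨ξ, h1, h2, h3⟩ := exists_poinc hD (bijective_XTproj A.hom)
  have h4 : ∀ i, ∃ l : Red.bc (U i).ι A ⟶ Red.bc (U i).ι At,
      AgPol.IsPolarization (Red.bc (U i).ι A) (Red.bc (U i).ι At) (AgPol.bcDual (U i).ι A At φ) l ∧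
        AgPol.HasDegSq l d ∧ pull (pullback.fst A.hom (U i).ι) c = ev (𝟙 _) l (bcXi (U i).ι A At ξ) := by
    intro i
    have i1 : IsProper (Red.bc (U i).ι A).hom := inferInstanceAs (IsProper (pullback.snd A.hom (U i).ι))
    have i2 : Flat (Red.bc (U i).ι A).hom := inferInstanceAs (Flat (pullback.snd A.hom (U i).ι))
    have i3 : LocallyOfFinitePresentation (Red.bc (U i).ι A).hom :=
      inferInstanceAs (LocallyOfFinitePresentation (pullback.snd A.hom (U i).ι))
    have i4 : GeometricallyIntegral (Red.bc (U i).ι A).hom :=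
      inferInstanceAs (GeometricallyIntegral (pullback.snd A.hom (U i).ι))
    exact K513.PolUniq.exists_lam (isDualAV_bc hD) (bcXi_mem_pz h1) (bcXi_mem_rg h2)
      (K533.PolBC.cm_bcXi_eq (U i).ι hD h1 h3) (hc i)
  choose l hp hd hcl using h4
  obtain ⟨lam, hl⟩ := exists_glue hD h1 h2 h3 hU hp hcl
  have hpol := isPolarization_glue hD h1 h2 h3 hU hp hl
  refine ⟨At, gAt, cAt, φ, ξ, lam, hD, h1, h2, h3, hpol, hasDegSq_glue hU fun i => ?_,
    cls_glue h2 hU hcl hl hc1⟩
  rw [hl i]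
  exact hd i

end K639.PolLocal
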